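import Cfsg.Agent.SFTCor.Equivariant
import Cfsg.Agent.Comp.PComponent
import Cfsg.Agent.Kinf.SylowExercises
import Cfsg.Agent.S0217
import Cfsg.Agent.S0018
import Cfsg.Prelude.Def_Involutions

/-!
Simple groups with abelian Sylow 2-subgroups of rank at least three and solvable involution
centralizers have a strongly embedded subgroup.
-/

set_option autoImplicit false
set_option linter.unusedSectionVars false
set_option linter.style.haveILetI false

namespace CfsgLib.AbelianSolvCent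

open Subgroup

universe u

variable {G : Type u} [Group G] [Finite G]

theorem layer_eq_bot [Group.IsSolvable G] : Cfsg.layer G = ⊥ := by
  refine le_bot_iff.1 (sSup_le fun K hK => ?_)
  exfalso
  exact CfsgLib.Comp.component_not_le_solvable hK
    (inferInstance : Group.IsSolvable (⊤ : Subgroup G)) le_top

/-- The involutions of an abelian group and the identity. -/
def omega (P : Subgroup G) (hP : IsMulCommutative P) : Subgroup G where
  carrier := {x | x ∈ P ∧ x * x = 1}
  mul_mem' := by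
    rintro x y ⟨hx, hx2⟩ ⟨hy, hy2⟩
    refine ⟨mul_mem hx hy, ?_⟩
    have hc : y * x = x * y := congrArg Subtype.val (hP.is_comm.comm ⟨y, hy⟩ ⟨x, hx⟩)
    calc x * y * (x * y) = x * (y * x) * y := by group
      _ = x * x * (y * y) := by rw [hc]; group
      _ = 1 := by rw [hx2, hy2, one_mul]
  one_mem' := ⟨one_mem _, one_mul 1⟩
  inv_mem' := by
    rintro x ⟨hx, hx2⟩
    exact ⟨inv_mem hx, by rw [← mul_inv_rev, hx2, inv_one]⟩

/-- An abelian Sylow subgroup of a solvable centralizer is normal modulo the core. -/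
theorem centralizer_factor (P : Sylow 2 G) (hP : IsMulCommutative (P : Subgroup G)) {a : G}
    (haP : a ∈ (P : Subgroup G))
    (hs : Group.IsSolvable ↥(centralizer ({a} : Set G))) :
    centralizer ({a} : Set G) ≤
      Cfsg.centralizerPPrimeCore 2 a ⊔ normalizer ((P : Subgroup G) : Set G) := by
  haveI : Fact (Nat.Prime 2) := ⟨Nat.prime_two⟩
  haveI := hs
  set C := centralizer ({a} : Set G)
  have hPC : (P : Subgroup G) ≤ C := fun x hx => mem_centralizer_singleton_iff.2
    (congrArg Subtype.val (hP.is_comm.comm ⟨x, hx⟩ ⟨a, haP⟩))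
  obtain ⟨T, hTP⟩ : ∃ T : Sylow 2 C, (T : Subgroup C) = (P : Subgroup G).subgroupOf C :=
    ⟨P.subtype hPC, rfl⟩
  have hmemT : ∀ x : C, x ∈ (T : Subgroup C) ↔ (x : G) ∈ (P : Subgroup G) := fun x => by
    rw [hTP]; rfl
  have hT : IsMulCommutative (T : Subgroup C) := ⟨⟨fun x y => by
    apply Subtype.ext
    apply Subtype.ext
    show ((x : C) : G) * ((y : C) : G) = ((y : C) : G) * ((x : C) : G)
    exact congrArg Subtype.val
      (hP.is_comm.comm ⟨_, (hmemT _).1 x.2⟩ ⟨_, (hmemT _).1 y.2⟩)⟩⟩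
  set N := (T : Subgroup C) ⊔ Cfsg.pPrimeCore 2 C
  haveI hN : N.Normal := Cfsg.Agent.S0018.result 2 T hT
  have hfr := Sylow.normalizer_sup_eq_top (T.subtype (le_sup_left : (T : Subgroup C) ≤ N))
  rw [Sylow.coe_subtype, map_subgroupOf_eq_of_le le_sup_left] at hfr
  have hle : (⊤ : Subgroup C) ≤
      normalizer ((T : Subgroup C) : Set C) ⊔ Cfsg.pPrimeCore 2 C :=
    hfr.symm.le.trans (sup_le le_sup_left
      (sup_le (Subgroup.le_normalizer.trans le_sup_left) le_sup_right))
  intro x hx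
  have h := mem_map_of_mem C.subtype (hle (mem_top (⟨x, hx⟩ : C)))
  rw [Subgroup.map_sup] at h
  refine (sup_le (le_trans ?_ le_sup_right) (show (Cfsg.pPrimeCore 2 C).map C.subtype ≤ _ from
    le_sup_left)) h
  rintro _ ⟨n, hn, rfl⟩
  refine mem_normalizer_iff.2 fun y => ⟨fun hy => ?_, fun hy => ?_⟩
  · exact (hmemT _).1 ((mem_normalizer_iff.1 hn ⟨y, hPC hy⟩).1 ((hmemT _).2 hy))
  · have h2 := (hmemT _).1 ((mem_normalizer_iff.1 (inv_mem hn) ⟨_, hPC hy⟩).1 ((hmemT _).2 hy))
    have h3 : (n : G)⁻¹ * (C.subtype n * y * (C.subtype n)⁻¹) * (n : G)⁻¹⁻¹ ∈ (P : Subgroup G) := h2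
    simpa [mul_assoc] using h3

/-- A simple group with abelian Sylow 2-subgroups of rank at least three and solvable centralizers
of involutions has a strongly embedded subgroup. -/
theorem exists_stronglyEmbedded [IsSimpleGroup G] (hna : ¬ IsMulCommutative G)
    (P : Sylow 2 G) (hP : IsMulCommutative (P : Subgroup G))
    (hC : ∀ t : G, orderOf t = 2 → Group.IsSolvable ↥(centralizer ({t} : Set G)))
    (h8 : 8 ≤ Nat.card (omega (P : Subgroup G) hP)) :
    ∃ H : Subgroup G, Cfsg.IsStronglyEmbedded H := by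
  haveI : Fact (Nat.Prime 2) := ⟨Nat.prime_two⟩
  set A := omega (P : Subgroup G) hP
  have hAP : A ≤ (P : Subgroup G) := fun x hx => hx.1
  have hAcomm : ∀ a ∈ A, ∀ b ∈ A, a * b = b * a := fun a ha b hb =>
    congrArg Subtype.val (hP.is_comm.comm ⟨a, hAP ha⟩ ⟨b, hAP hb⟩)
  have hord : ∀ a ∈ A, a ≠ 1 → orderOf a = 2 := fun a ha h1 =>
    orderOf_eq_prime (by rw [sq]; exact ha.2) h1
  have hA8 : 2 ^ 3 ≤ Nat.card A := by norm_num; exact h8
  set θ : G → Subgroup G := fun a => Cfsg.centralizerPPrimeCore 2 a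
  have hθC : ∀ a ∈ A, a ≠ 1 → θ a ≤ centralizer {a} := fun a _ _ =>
    Signalizer.mem_centralizerPPrimeCore_le
  have hθp : ∀ a ∈ A, a ≠ 1 → ¬ 2 ∣ Nat.card (θ a) := fun a _ _ h => by
    have h1 : (Nat.card (θ a)).Coprime 2 := Signalizer.coprime_card_centralizerPPrimeCore a
    exact Nat.not_coprime_of_dvd_of_dvd one_lt_two h dvd_rfl h1
  have hcen : ∀ a ∈ A, ∀ b ∈ A, b ∈ centralizer ({a} : Set G) := fun a ha b hb =>
    mem_centralizer_singleton_iff.2 (hAcomm b hb a ha)
  have hθinv : ∀ a ∈ A, a ≠ 1 → ∀ b ∈ A, ∀ x ∈ θ a, b * x * b⁻¹ ∈ θ a := fun a ha _ b hb x hx =>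
    (mem_normalizer_iff.1
      (Signalizer.centralizer_le_normalizer_centralizerPPrimeCore a (hcen a ha b hb)) x).1 hx
  have hθs : ∀ a ∈ A, a ≠ 1 → Group.IsSolvable (θ a) := fun a ha h1 => by
    haveI := hC a (hord a ha h1)
    exact Group.isSolvable_of_isSolvable_injective (f := inclusion (hθC a ha h1)) (inclusion_injective _)
  have hbal : ∀ a ∈ A, a ≠ 1 → ∀ b ∈ A, b ≠ 1 → θ a ⊓ centralizer {b} ≤ θ b :=
    fun a ha _ b hb hb1 => by
      haveI := hC b (hord b hb hb1)
      exact SFTCor.centralizerPPrimeCore_balance (by rw [sq]; exact ha.2) (hAcomm a ha b hb)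
        ((CfsgLib.PComp.pLayer_eq_bot_iff 2).2 layer_eq_bot)
  obtain ⟨hW, -⟩ := Cfsg.Agent.S0217.result A hAcomm (fun a ha => by rw [sq]; exact ha.2) hA8 θ
    hθC hθp hθinv hθs hbal
  set W := ⨆ a : {a : G // a ∈ A ∧ a ≠ 1}, θ a
  obtain ⟨M, hMtop, hNM, hθM⟩ : ∃ M : Subgroup G, M ≠ ⊤ ∧
      normalizer ((P : Subgroup G) : Set G) ≤ M ∧ ∀ a ∈ A, a ≠ 1 → θ a ≤ M := by
    have hNW : normalizer ((P : Subgroup G) : Set G) ≤ normalizer (W : Set G) := by
      have key : ∀ g ∈ normalizer ((P : Subgroup G) : Set G), W.map (MulAut.conj g).toMonoidHom ≤ W := by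
        intro g hg
        rw [Subgroup.map_iSup]
        refine iSup_le fun b => ?_
        rw [← SFTCor.centralizerPPrimeCore_conj]
        refine le_iSup (fun x : {a : G // a ∈ A ∧ a ≠ 1} => θ x) ⟨g * b * g⁻¹, ⟨?_, ?_⟩, ?_⟩
        · exact (mem_normalizer_iff.1 hg b).1 b.2.1.1
        · rw [show g * (b : G) * g⁻¹ * (g * b * g⁻¹) = g * ((b : G) * b) * g⁻¹ by group, b.2.1.2,
            mul_one, mul_inv_cancel]
        · exact fun h => b.2.2 (conj_eq_one_iff.1 h)
      intro g hg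
      refine mem_normalizer_iff.2 fun x => ⟨fun hx => key g hg ⟨x, hx, rfl⟩, fun hx => ?_⟩
      have h := key _ (inv_mem hg) ⟨_, hx, rfl⟩
      simpa [mul_assoc] using h
    by_cases hW1 : W = ⊥
    · refine ⟨_, fun htop => ?_, le_rfl, fun a ha h1 => ?_⟩
      · have hPn : (P : Subgroup G).Normal := normalizer_eq_top_iff.1 htop
        rcases hPn.eq_bot_or_eq_top with h | h
        · have h8' := h8.trans (card_le_of_le hAP)
          rw [h, card_bot] at h8'
          omega
        · exact hna ⟨⟨fun x y => congrArg Subtype.val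
            (hP.is_comm.comm ⟨x, h.symm ▸ mem_top x⟩ ⟨y, h.symm ▸ mem_top y⟩)⟩⟩
      · have h := le_iSup (fun x : {a : G // a ∈ A ∧ a ≠ 1} => θ x) ⟨a, ha, h1⟩
        exact h.trans (hW1.le.trans bot_le)
    · refine ⟨normalizer (W : Set G), fun htop => ?_, hNW, fun a ha h1 => ?_⟩
      · rcases (normalizer_eq_top_iff.1 htop).eq_bot_or_eq_top with h | h
        · exact hW1 h
        · apply hW
          rw [h, card_top]
          have h2 : 2 ∣ Nat.card A := by
            obtain ⟨k, hk⟩ := IsPGroup.iff_card.1 (P.2.to_le hAP)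
            rw [hk] at hA8 ⊢
            rcases k with _ | k
            · norm_num at hA8
            · exact dvd_pow_self 2 k.succ_ne_zero
          exact h2.trans (card_subgroup_dvd_card A)
      · have h := le_iSup (fun x : {a : G // a ∈ A ∧ a ≠ 1} => θ x) ⟨a, ha, h1⟩
        exact h.trans Subgroup.le_normalizer
  have hPM : (P : Subgroup G) ≤ M := Subgroup.le_normalizer.trans hNM
  have hCM : ∀ a ∈ A, a ≠ 1 → centralizer ({a} : Set G) ≤ M := fun a ha h1 =>
    (centralizer_factor P hP (hAP ha) (hC a (hord a ha h1))).trans (sup_le (hθM a ha h1) hNM)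
  have hinto : ∀ t ∈ M, orderOf t = 2 → ∃ m ∈ M, m * t * m⁻¹ ∈ A := by
    intro t ht ho
    obtain ⟨T, hT⟩ := (IsPGroup.of_card (p := 2) (n := 1)
      (by rw [Nat.card_zpowers, ← Subgroup.orderOf_coe, ho, pow_one]) :
        IsPGroup 2 (zpowers (⟨t, ht⟩ : M))).exists_le_sylow
    obtain ⟨m, hm⟩ := MulAction.exists_smul_eq M T (P.subtype hPM)
    refine ⟨m, m.2, ?_, ?_⟩
    · have h1 : m * ⟨t, ht⟩ * m⁻¹ ∈ ((m • T : Sylow 2 M) : Subgroup M) := by
        rw [Sylow.coe_subgroup_smul]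
        exact ⟨_, hT (mem_zpowers _), rfl⟩
      rw [hm] at h1
      exact h1
    · rw [show (m : G) * t * (m : G)⁻¹ * (m * t * (m : G)⁻¹) = m * (t * t) * (m : G)⁻¹ by group,
        show t * t = 1 by rw [← sq, ← ho, pow_orderOf_eq_one], mul_one, mul_inv_cancel]
  refine ⟨M, hMtop, even_iff_two_dvd.2 ?_, fun g hg => ?_⟩
  · refine dvd_trans ?_ (card_dvd_of_le hPM)
    obtain ⟨k, hk⟩ := IsPGroup.iff_card.1 P.2
    rcases k with _ | k
    · have := card_le_of_le hAP
      rw [hk] at this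
      omega
    · rw [hk]; exact dvd_pow_self 2 k.succ_ne_zero
  · by_contra hodd
    obtain ⟨⟨t, htM, s, hsM, hst⟩, ho⟩ := exists_prime_orderOf_dvd_card'
      (G := ↥(M ⊓ M.map (MulAut.conj g).toMonoidHom)) 2
      (even_iff_two_dvd.1 (Nat.not_odd_iff_even.1 hodd))
    rw [← Subgroup.orderOf_coe] at ho; change orderOf t = 2 at ho
    have hts : g * s * g⁻¹ = t := hst
    have hos : orderOf s = 2 := by
      rw [← ho, ← hts]
      exact ((MulAut.conj g).orderOf_eq s).symm
    obtain ⟨m₁, hm₁, hA₁⟩ := hinto t htM ho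
    obtain ⟨m₂, hm₂, hA₂⟩ := hinto s hsM hos
    set b := m₂ * s * m₂⁻¹
    set h := m₁ * g * m₂⁻¹ with hdef
    have hb1 : b ≠ 1 := fun e => by
      rw [conj_eq_one_iff.1 e, orderOf_one] at hos
      omega
    have hhb : h * b * h⁻¹ = m₁ * t * m₁⁻¹ := by rw [hdef, ← hts]; simp only [b]; group
    obtain ⟨n, hn, c, hc, hhc⟩ := CfsgLib.Kinf.burnside_central P (a := b) (g := h)
      (fun y hy => congrArg Subtype.val (hP.is_comm.comm ⟨b, hAP hA₂⟩ ⟨y, hy⟩))
      (fun y hy => by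
        rw [hhb]
        exact congrArg Subtype.val (hP.is_comm.comm ⟨_, hAP hA₁⟩ ⟨y, hy⟩))
    have hh : h ∈ M := by
      rw [hhc]
      exact mul_mem (hNM hn) (hCM b hA₂ hb1 (mem_centralizer_singleton_iff.2 hc))
    apply hg
    rw [show g = m₁⁻¹ * h * m₂ by rw [hdef]; group]
    exact mul_mem (mul_mem (inv_mem hm₁) hh) hm₂

end CfsgLib.AbelianSolvCent
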