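import Cfsg.Agent.AbelianSolvCent.Simple
import Cfsg.Agent.Balance2.CoreLift
import Cfsg.Agent.S0205

/-!
Groups with abelian Sylow 2-subgroups and solvable involution centralizers, relative to the
structure theorem for strongly embedded subgroups and the Gorenstein–Walter theorem.
-/

set_option autoImplicit false
set_option linter.unusedSectionVars false
set_option linter.style.haveILetI false

namespace CfsgLib.AbelianSolvCent

open Subgroup

universe u

variable {G : Type u} [Group G] [Finite G]

/-- Centralizers of involutions stay solvable modulo the odd core. -/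
theorem quot_centralizer
    (hC : ∀ t : G, orderOf t = 2 → Group.IsSolvable ↥(centralizer ({t} : Set G)))
    (t : G ⧸ Cfsg.oddCore G) (ht : orderOf t = 2) :
    Group.IsSolvable ↥(centralizer ({t} : Set (G ⧸ Cfsg.oddCore G))) := by
  haveI : Fact (Nat.Prime 2) := ⟨Nat.prime_two⟩
  set π := QuotientGroup.mk' (Cfsg.oddCore G)
  obtain ⟨g, rfl⟩ := QuotientGroup.mk'_surjective (Cfsg.oddCore G) t
  -- an involution in the coset
  obtain ⟨s, hs, hst⟩ : ∃ s : G, orderOf s = 2 ∧ π s = π g := by
    obtain ⟨a, m, hm, ho⟩ := Nat.exists_eq_pow_mul_and_not_dvd (orderOf_pos g).ne' 2 (by norm_num)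
    have hmodd : Odd m := Nat.not_even_iff_odd.1 fun h => hm (even_iff_two_dvd.1 h)
    set x := g ^ m
    have hx2 : x ^ 2 ^ a = 1 := by
      rw [← pow_mul, mul_comm, ← ho, pow_orderOf_eq_one]
    have hπx : π x = π g := by
      obtain ⟨k, hk⟩ := hmodd
      rw [map_pow, hk, pow_succ, pow_mul, show π g ^ 2 = 1 by rw [← ht]; exact pow_orderOf_eq_one _,
        one_pow, one_mul]
    have hxx : x * x = 1 := by
      have h1 : x * x ∈ Cfsg.oddCore G := (QuotientGroup.eq_one_iff _).1 (by
        show π (x * x) = 1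
        rw [map_mul, hπx, ← sq, ← ht]; exact pow_orderOf_eq_one _)
      have hodd := DGroup.odd_orderOf (DGroup.odd_oddCore G) h1
      have h2 : (x * x) ^ 2 ^ a = 1 := by
        rw [(Commute.refl x).mul_pow, hx2, one_mul]
      exact orderOf_eq_one_iff.1 (Nat.eq_one_of_dvd_coprimes
        ((Nat.coprime_two_left.2 hodd).pow_left a) (orderOf_dvd_of_pow_eq_one h2) dvd_rfl)
    refine ⟨x, orderOf_eq_prime (by rw [sq]; exact hxx) fun h => ?_, hπx⟩
    rw [← hπx, h, map_one, orderOf_one] at ht
    omega
  haveI := hC s hs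
  have hR : IsPGroup 2 (zpowers s) := IsPGroup.of_card (n := 1) (by rw [Nat.card_zpowers, hs, pow_one])
  have hle : centralizer ({π g} : Set (G ⧸ Cfsg.oddCore G)) ≤
      (centralizer ({s} : Set G)).map π := by
    refine le_trans ?_ ((Balance2.centralizer_map_le (p := 2)
      ((Nat.coprime_two_right).2 (DGroup.odd_oddCore G)) hR).trans (map_mono ?_))
    · rw [← hst, MonoidHom.map_zpowers]
      intro q hq
      refine mem_centralizer_iff.2 fun z hz => ?_
      obtain ⟨k, rfl⟩ := mem_zpowers_iff.1 hz
      exact ((show Commute q (π s) from mem_centralizer_singleton_iff.1 hq).zpow_right k).eq.symm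
    · exact centralizer_le (Set.singleton_subset_iff.2 (mem_zpowers s))
  haveI : Group.IsSolvable ↥((centralizer ({s} : Set G)).map π) :=
    Group.isSolvable_of_surjective (π.subgroupMap_surjective (centralizer ({s} : Set G)))
  exact Group.isSolvable_of_isSolvable_injective (f := inclusion hle) (inclusion_injective hle)

/-- No nontrivial normal 2-subgroup. -/
theorem no_two_normal (hns : ¬ Group.IsSolvable G) (P : Sylow 2 G)
    (hP : IsMulCommutative (P : Subgroup G))
    (hC : ∀ t : G, orderOf t = 2 → Group.IsSolvable ↥(centralizer ({t} : Set G)))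
    (B : Subgroup G) [B.Normal] (hB : IsPGroup 2 B) : B = ⊥ := by
  haveI : Fact (Nat.Prime 2) := ⟨Nat.prime_two⟩
  by_contra hne
  obtain ⟨k, hk⟩ := IsPGroup.iff_card.1 hB
  obtain ⟨⟨z, hz⟩, hzo⟩ := exists_prime_orderOf_dvd_card' (G := B) 2 (by
    rw [hk]
    rcases k with _ | k
    · exact absurd (card_eq_one.1 (by rw [hk, pow_zero])) hne
    · exact dvd_pow_self 2 k.succ_ne_zero)
  rw [Subgroup.orderOf_mk] at hzo
  set C := centralizer (B : Set G)
  haveI : C.Normal := inferInstance
  haveI : Group.IsSolvable C := by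
    haveI := hC z hzo
    have hle : C ≤ centralizer ({z} : Set G) := centralizer_le (Set.singleton_subset_iff.2 hz)
    exact Group.isSolvable_of_isSolvable_injective (f := inclusion hle) (inclusion_injective hle)
  have hPC : (P : Subgroup G) ≤ C := fun x hx => mem_centralizer_iff.2 fun b hb =>
    congrArg Subtype.val (hP.is_comm.comm ⟨b, IsPGroup.le_sylow_of_normal hB P hb⟩ ⟨x, hx⟩)
  haveI : Group.IsSolvable (G ⧸ C) := Cfsg.Agent.S0205.result (by
    rw [← index_eq_card]
    refine Nat.not_even_iff_odd.1 fun h => P.not_dvd_index ?_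
    exact (even_iff_two_dvd.1 h).trans (index_dvd_of_le hPC))
  exact hns ((Group.isSolvable_iff_subgroup_quotient C).2 ⟨inferInstance, inferInstance⟩)

/-- The case of a trivial odd core. -/
theorem core_free (hB : Bender.Consumers.Structure.{u}) (hGW : GWApps.Statement.{u})
    (hns : ¬ Group.IsSolvable G) (hO : Cfsg.oddCore G = ⊥) (P : Sylow 2 G)
    (hP : IsMulCommutative (P : Subgroup G))
    (hC : ∀ t : G, orderOf t = 2 → Group.IsSolvable ↥(centralizer ({t} : Set G))) :
    ∃ (F : Type) (_ : Field F) (_ : Fintype F),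
      (((Fintype.card F % 8 = 3 ∨ Fintype.card F % 8 = 5) ∧ 5 ≤ Fintype.card F) ∨
        (∃ n : ℕ, 2 ≤ n ∧ Fintype.card F = 2 ^ n)) ∧
      ∃ N : Subgroup G, N.Normal ∧
        Nonempty (↥N ≃* Matrix.ProjectiveSpecialLinearGroup (Fin 2) F) ∧
        centralizer (N : Set G) = ⊥ := by
  haveI : Fact (Nat.Prime 2) := ⟨Nat.prime_two⟩
  -- abelian normal subgroups are trivial
  have habel : ∀ B : Subgroup G, B.Normal → IsMulCommutative B → B = ⊥ := by
    intro B hB' hBc
    haveI := hB'
    set B₂ := omega B hBc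
    haveI : B₂.Normal := ⟨fun x hx g => ⟨hB'.conj_mem x hx.1 g, by
      rw [show g * x * g⁻¹ * (g * x * g⁻¹) = g * (x * x) * g⁻¹ by group, hx.2, mul_one, mul_inv_cancel]⟩⟩
    have h2 := no_two_normal hns P hP hC B₂ (fun x => ⟨1, Subtype.ext (by
      show (x : G) ^ 2 ^ 1 = 1
      rw [pow_one, sq]; exact x.2.2)⟩)
    by_cases hev : 2 ∣ Nat.card B
    · obtain ⟨⟨z, hz⟩, hzo⟩ := exists_prime_orderOf_dvd_card' (G := B) 2 hev
      rw [Subgroup.orderOf_mk] at hzo
      have hzB : z ∈ B₂ := ⟨hz, by rw [← sq, ← hzo]; exact pow_orderOf_eq_one z⟩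
      rw [h2, mem_bot] at hzB
      rw [hzB, orderOf_one] at hzo
      omega
    · exact le_bot_iff.1 (hO ▸ DGroup.le_oddCore hB' (Nat.not_even_iff_odd.1 fun h =>
        hev (even_iff_two_dvd.1 h)))
  -- a minimal normal subgroup
  haveI : Nontrivial G := not_subsingleton_iff_nontrivial.1 fun h => hns inferInstance
  obtain ⟨N, ⟨hNn, hN1⟩, hNmin⟩ := Set.Finite.exists_minimal
    (Set.toFinite {N : Subgroup G | N.Normal ∧ N ≠ ⊥}) ⟨⊤, inferInstance, top_ne_bot⟩
  haveI := hNn
  have hON : Cfsg.oddCore N = ⊥ := by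
    haveI : (Cfsg.oddCore N).Characteristic := characteristic_iff_map_le.2 fun φ => by
      refine DGroup.le_oddCore (Normal.map inferInstance _ φ.surjective) ?_
      rw [card_map_of_injective (show Function.Injective φ.toMonoidHom from φ.injective)]
      exact DGroup.odd_oddCore N
    have h := DGroup.le_oddCore (K := G) (N := (Cfsg.oddCore N).map N.subtype) inferInstance
      (by rw [card_map_of_injective N.subtype_injective]; exact DGroup.odd_oddCore N)
    rwa [hO, le_bot_iff, Subgroup.map_eq_bot_iff_of_injective _ N.subtype_injective] at h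
  have h2N : ∀ B : Subgroup N, B.Normal → IsMulCommutative B → B = ⊥ := by
    intro B hB' hBc
    haveI := hB'
    by_contra hne
    have hev : 2 ∣ Nat.card B := by
      by_contra hev
      exact hne (le_bot_iff.1 (hON ▸ DGroup.le_oddCore hB' (Nat.not_even_iff_odd.1 fun h =>
        hev (even_iff_two_dvd.1 h))))
    obtain ⟨⟨z, hz⟩, hzo⟩ := exists_prime_orderOf_dvd_card' (G := B) 2 hev
    rw [Subgroup.orderOf_mk] at hzo
    set B₂ := omega B hBc
    haveI : B₂.Normal := ⟨fun x hx g => ⟨hB'.conj_mem x hx.1 g, by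
      rw [show g * x * g⁻¹ * (g * x * g⁻¹) = g * (x * x) * g⁻¹ by group, hx.2, mul_one, mul_inv_cancel]⟩⟩
    have h1 : B₂ ≤ Cfsg.pCore 2 N := Solvable.le_pCore 2 (inferInstance : B₂.Normal)
      fun x => ⟨1, Subtype.ext (by
        show (x : N) ^ 2 ^ 1 = 1
        rw [pow_one, sq]; exact x.2.2)⟩
    haveI := Solvable.pCore_normal 2 (G := N)
    haveI : ((Cfsg.pCore 2 N).map N.subtype).Normal := by
      haveI : (Cfsg.pCore 2 N).Characteristic := characteristic_iff_map_le.2 fun φ =>
        Solvable.le_pCore 2 (Normal.map inferInstance _ φ.surjective)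
          ((Solvable.isPGroup_pCore 2).map _)
      infer_instance
    have h3 := no_two_normal hns P hP hC ((Cfsg.pCore 2 N).map N.subtype)
      ((Solvable.isPGroup_pCore 2).map _)
    rw [Subgroup.map_eq_bot_iff_of_injective _ N.subtype_injective] at h3
    have hz1 : z = 1 := mem_bot.1 (h3 ▸ h1 (show z ∈ B₂ from
      ⟨hz, by rw [← sq, ← hzo]; exact pow_orderOf_eq_one z⟩))
    rw [hz1, orderOf_one] at hzo
    omega
  have hNcomm : ¬ IsMulCommutative N := fun h => hN1 (habel N hNn h)
  have hNns : ∀ M : Subgroup N, M.Normal → M ≠ ⊥ → ¬ Group.IsSolvable M := by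
    intro M hM hM1 hs
    haveI := hM
    haveI := hs
    obtain ⟨k, hk⟩ := hs.solvable
    classical
    have hex : ∃ j, derivedSeries M j = ⊥ := ⟨k, hk⟩
    obtain ⟨j, hj⟩ : ∃ j, Nat.find hex = j + 1 := Nat.exists_eq_succ_of_ne_zero fun h => hM1 (by
      have h0 := Nat.find_spec hex
      rw [h, derivedSeries_zero] at h0
      have := congrArg (Subgroup.map M.subtype) h0
      rwa [← MonoidHom.range_eq_map, range_subtype, Subgroup.map_bot] at this)
    have hA1 : derivedSeries M j ≠ ⊥ := Nat.find_min hex (by omega)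
    have hA2 : ⁅derivedSeries M j, derivedSeries M j⁆ = ⊥ := by
      rw [← derivedSeries_succ, ← hj]; exact Nat.find_spec hex
    haveI : (derivedSeries M j).Characteristic := derivedSeries_characteristic M j
    haveI : IsMulCommutative ↥(derivedSeries M j) := ⟨⟨fun a b => Subtype.ext
      (mem_centralizer_iff.1 (commutator_eq_bot_iff_le_centralizer.1 hA2 b.2) a a.2)⟩⟩
    exact hA1 ((Subgroup.map_eq_bot_iff_of_injective _ M.subtype_injective).1
      (h2N ((derivedSeries M j).map M.subtype) inferInstance (map_isMulCommutative _ _)))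
  have hNs : ¬ Group.IsSolvable N := fun h => hNns ⊤ inferInstance
    (fun hbot => hN1 (by
      have := congrArg (Subgroup.map N.subtype) hbot
      rwa [← MonoidHom.range_eq_map, range_subtype, Subgroup.map_bot] at this)) inferInstance
  have hcent : centralizer (N : Set G) = ⊥ := by
    by_contra hne
    haveI : (centralizer (N : Set G)).Normal := inferInstance
    have hev : 2 ∣ Nat.card (centralizer (N : Set G)) := by
      by_contra hev
      exact hne (le_bot_iff.1 (hO ▸ DGroup.le_oddCore inferInstance (Nat.not_even_iff_odd.1 fun h =>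
        hev (even_iff_two_dvd.1 h))))
    obtain ⟨⟨z, hz⟩, hzo⟩ := exists_prime_orderOf_dvd_card'
      (G := centralizer (N : Set G)) 2 hev
    rw [Subgroup.orderOf_mk] at hzo
    haveI := hC z hzo
    have hle : N ≤ centralizer ({z} : Set G) := fun x hx => mem_centralizer_singleton_iff.2
      (mem_centralizer_iff.1 hz x hx)
    exact hNs (Group.isSolvable_of_isSolvable_injective (f := inclusion hle) (inclusion_injective hle))
  have hsimple : IsSimpleGroup N := by
    haveI : Nontrivial N := (nontrivial_iff_ne_bot N).2 hN1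
    refine ⟨fun H hH => ?_⟩
    by_contra hno
    push Not at hno
    obtain ⟨M, ⟨hMn, hM1⟩, hMmin⟩ := Set.Finite.exists_minimal
      (Set.toFinite {M : Subgroup N | M.Normal ∧ M ≠ ⊥ ∧ M ≤ H})
      ⟨H, hH, hno.1, le_rfl⟩
    haveI := hMn
    obtain ⟨hM1, hMH⟩ := hM1
    set M' := M.map N.subtype
    have hM' : ∀ g : G, M'.map (MulAut.conj g).toMonoidHom = M' := by
      intro g
      let φ : MulAut N := MulAut.conjNormal g
      have himg : M'.map (MulAut.conj g).toMonoidHom = (M.map φ.toMonoidHom).map N.subtype := by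
        rw [Subgroup.map_map, Subgroup.map_map]
        congr 1
      haveI hφn : (M.map φ.toMonoidHom).Normal := Normal.map hMn _ φ.surjective
      rw [himg]
      congr 1
      by_cases hI : M.map φ.toMonoidHom ⊓ M = ⊥
      · exfalso
        have hc : M.map φ.toMonoidHom ≤ centralizer (M : Set N) := by
          rw [← commutator_eq_bot_iff_le_centralizer, ← le_bot_iff, ← hI]
          exact commutator_le_inf _ _
        have hev : 2 ∣ Nat.card M := by
          by_contra hev
          exact hM1 (le_bot_iff.1 (hON ▸ DGroup.le_oddCore hMn (Nat.not_even_iff_odd.1 fun h =>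
            hev (even_iff_two_dvd.1 h))))
        obtain ⟨⟨t, ht⟩, hto⟩ := exists_prime_orderOf_dvd_card' (G := M) 2 hev
        rw [Subgroup.orderOf_mk] at hto
        haveI := hC (t : G) (by rw [Subgroup.orderOf_coe, hto])
        apply hNns (M.map φ.toMonoidHom) hφn
          (fun h => hM1 ((Subgroup.map_eq_bot_iff_of_injective _ φ.injective).1 h))
        let ψ : ↥(M.map φ.toMonoidHom) →* ↥(centralizer ({(t : G)} : Set G)) :=
          (N.subtype.comp (M.map φ.toMonoidHom).subtype).codRestrict _ fun x =>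
            mem_centralizer_singleton_iff.2
              (congrArg Subtype.val (mem_centralizer_iff.1 (hc x.2) t ht)).symm
        exact Group.isSolvable_of_isSolvable_injective (f := ψ) fun a b h => by
          have h' := congrArg Subtype.val h
          exact Subtype.ext (Subtype.ext h')
      · have h1 := hMmin (y := M.map φ.toMonoidHom ⊓ M)
          ⟨inferInstance, hI, inf_le_right.trans hMH⟩ inf_le_right
        have h2 : M ≤ M.map φ.toMonoidHom := h1.trans inf_le_left
        exact (eq_of_le_of_card_ge h2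
          (by rw [card_map_of_injective (show Function.Injective φ.toMonoidHom from φ.injective)])).symm
    haveI : M'.Normal := ⟨fun x hx g => (hM' g).le ⟨x, hx, rfl⟩⟩
    have h1 := hNmin (y := M')
      ⟨inferInstance, fun h => hM1 ((Subgroup.map_eq_bot_iff_of_injective _ N.subtype_injective).1 h)⟩
      (map_subtype_le M)
    apply hno.2
    rw [eq_top_iff]
    intro x _
    obtain ⟨y, hy, hyx⟩ := h1 x.2
    exact hMH (Subtype.ext hyx ▸ hy)
  -- the Sylow subgroup of `N`
  obtain ⟨S⟩ : Nonempty (Sylow 2 N) := inferInstance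
  have hS : IsMulCommutative (S : Subgroup N) := by
    obtain ⟨f, hf⟩ := GWApps.embeds_sylow P (S.2.map N.subtype)
    let e := equivMapOfInjective (S : Subgroup N) N.subtype N.subtype_injective
    exact ⟨⟨fun a b => e.injective (hf (by
      rw [map_mul, map_mul, map_mul, map_mul]; exact hP.is_comm.comm _ _))⟩⟩
  have hCN : ∀ t : N, orderOf t = 2 → Group.IsSolvable ↥(centralizer ({t} : Set N)) := by
    intro t ht
    haveI := hC (t : G) (by rw [Subgroup.orderOf_coe, ht])
    let ψ : ↥(centralizer ({t} : Set N)) →* ↥(centralizer ({(t : G)} : Set G)) :=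
      (N.subtype.comp (centralizer ({t} : Set N)).subtype).codRestrict _ fun x =>
        mem_centralizer_singleton_iff.2 (congrArg Subtype.val (mem_centralizer_singleton_iff.1 x.2))
    exact Group.isSolvable_of_isSolvable_injective (f := ψ) fun a b h => by
      have h' := congrArg Subtype.val h
      exact Subtype.ext (Subtype.ext h')
  obtain ⟨F, i1, i2, hq, e⟩ := simple_case hB hGW hNcomm S hS hCN
  exact ⟨F, i1, i2, hq, N, hNn, e, hcent⟩

/-- The theorem for arbitrary groups. -/
theorem main (hB : Bender.Consumers.Structure.{u}) (hGW : GWApps.Statement.{u})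
    (S : Sylow 2 G) (hS : IsMulCommutative ↥(S : Subgroup G))
    (hC : ∀ t : G, orderOf t = 2 → Group.IsSolvable ↥(centralizer ({t} : Set G))) :
    Group.IsSolvable G ∨
      ∃ (F : Type) (_ : Field F) (_ : Fintype F),
        (((Fintype.card F % 8 = 3 ∨ Fintype.card F % 8 = 5) ∧ 5 ≤ Fintype.card F) ∨
          (∃ n : ℕ, 2 ≤ n ∧ Fintype.card F = 2 ^ n)) ∧
        ∃ N : Subgroup (G ⧸ Cfsg.oddCore G), N.Normal ∧
          Nonempty (↥N ≃* Matrix.ProjectiveSpecialLinearGroup (Fin 2) F) ∧
          centralizer (N : Set (G ⧸ Cfsg.oddCore G)) = ⊥ := by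
  haveI : Fact (Nat.Prime 2) := ⟨Nat.prime_two⟩
  refine or_iff_not_imp_left.2 fun hns => ?_
  have hnsQ : ¬ Group.IsSolvable (G ⧸ Cfsg.oddCore G) := fun h => hns (by
    haveI : Group.IsSolvable (Cfsg.oddCore G) := Cfsg.Agent.S0205.result (DGroup.odd_oddCore G)
    exact (Group.isSolvable_iff_subgroup_quotient _).2 ⟨inferInstance, h⟩)
  exact core_free hB hGW hnsQ LocalB.oddCore_quotient
    (S.mapSurjective (QuotientGroup.mk'_surjective (Cfsg.oddCore G)))
    (map_isMulCommutative (S : Subgroup G) (QuotientGroup.mk' (Cfsg.oddCore G)))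
    (quot_centralizer hC)

end CfsgLib.AbelianSolvCent
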