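import Cfsg.Agent.AbelianSolvCent.Embedded
import Cfsg.Agent.Bender.ConsumerRows
import Cfsg.Agent.GWApps.Hyp
import Cfsg.Agent.GWApps.Dihedral
import Cfsg.Agent.Fusion.MetacyclicAut
import Cfsg.Agent.Solvable.TwoMetacyclic
import Cfsg.Agent.Classical.PSLTwoSub
import Cfsg.Agent.CITGraph.Models
import Cfsg.Agent.S0949
import Cfsg.Agent.S0330
import Cfsg.Agent.S1141

/-!
The simple groups with abelian Sylow 2-subgroups and solvable involution centralizers, relative to
the structure theorem for strongly embedded subgroups and the Gorenstein–Walter theorem.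
-/

set_option autoImplicit false
set_option linter.unusedSectionVars false
set_option linter.style.haveILetI false

namespace CfsgLib.AbelianSolvCent

open Subgroup

universe u

theorem card_sq_ker (X : Type u) [CommGroup X] [Finite X] :
    Nat.card (powMonoidHom 2 : X →* X).ker = (powMonoidHom 2 : X →* X).range.index := by
  have h1 := (powMonoidHom 2 : X →* X).ker.index_mul_card
  rw [index_ker] at h1
  have h2 := (powMonoidHom 2 : X →* X).range.index_mul_card
  rw [← h1, mul_comm (Nat.card _) (Nat.card (powMonoidHom 2 : X →* X).ker)] at h2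
  exact (Nat.eq_of_mul_eq_mul_right Nat.card_pos h2).symm

/-- An abelian group with at most four solutions of `x² = 1` has sectional rank at most two. -/
theorem sectional_le_two (X : Type u) [CommGroup X] [Finite X]
    (h : Nat.card {x : X // x * x = 1} ≤ 4) : Cfsg.SectionalPRankLE 2 2 X := by
  intro H N _ A _ hA
  letI : CommGroup H := inferInstance
  letI : CommGroup (H ⧸ N) := QuotientGroup.Quotient.commGroup N
  let f : H →* H ⧸ N := QuotientGroup.mk' N
  have h1 : Nat.card A ≤ Nat.card (powMonoidHom 2 : H ⧸ N →* H ⧸ N).ker := by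
    refine card_le_of_le fun a ha => ?_
    rw [MonoidHom.mem_ker, powMonoidHom_apply]
    exact hA a ha
  have h2 : (powMonoidHom 2 : H →* H).range.map f = (powMonoidHom 2 : H ⧸ N →* H ⧸ N).range := by
    ext y
    constructor
    · rintro ⟨_, ⟨x, rfl⟩, rfl⟩
      exact ⟨f x, by simp [f]⟩
    · rintro ⟨z, rfl⟩
      obtain ⟨x, rfl⟩ := QuotientGroup.mk'_surjective N z
      exact ⟨x ^ 2, ⟨x, rfl⟩, by simp [f]⟩
  have h3 : (powMonoidHom 2 : H ⧸ N →* H ⧸ N).range.index ≤
      (powMonoidHom 2 : H →* H).range.index := by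
    rw [← h2]
    exact Nat.le_of_dvd (Nat.pos_of_ne_zero index_ne_zero_of_finite)
      (index_map_dvd _ (QuotientGroup.mk'_surjective N))
  have h4 : Nat.card (powMonoidHom 2 : H →* H).ker ≤ Nat.card {x : X // x * x = 1} := by
    refine Nat.card_le_card_of_injective
      (fun x => ⟨((x : H) : X), by
        have hx := MonoidHom.mem_ker.1 x.2
        rw [powMonoidHom_apply, sq] at hx
        exact congrArg Subtype.val hx⟩) ?_
    intro a b hab
    exact Subtype.ext (Subtype.ext (congrArg (fun z : {x : X // x * x = 1} => z.1) hab))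
  rw [← card_sq_ker] at h3
  rw [← card_sq_ker (X := H)] at h3
  norm_num
  omega

/-- The congruence on the field of a `PSL₂` with Sylow 2-subgroups of order four. -/
theorem q_mod_eight {L : Type u} [Group L] [Finite L] {F : Type} [Field F] [Fintype F]
    (hodd : Odd (Fintype.card F)) (P : Sylow 2 L) (h4 : Nat.card (P : Subgroup L) = 4)
    (ι : L ≃* Matrix.ProjectiveSpecialLinearGroup (Fin 2) F) :
    Fintype.card F % 8 = 3 ∨ Fintype.card F % 8 = 5 := by
  haveI : Fact (Nat.Prime 2) := ⟨Nat.prime_two⟩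
  have hq : Nat.card F = Fintype.card F := Nat.card_eq_fintype_card
  have hmul := Linear.PSLTwo.two_mul_card_psl F (by rw [hq]; exact hodd)
  rw [hq, show Nat.card (Matrix.ProjectiveSpecialLinearGroup (Fin 2) F) = Nat.card L from
    (Nat.card_congr ι.toEquiv).symm] at hmul
  set c := Fintype.card F with hcdef
  by_contra hno
  obtain ⟨d, hd⟩ := hodd
  have h16 : 16 ∣ c ^ 2 - 1 := by
    have : c % 8 = 1 ∨ c % 8 = 7 := by omega
    obtain ⟨w, hw⟩ : ∃ w, c = 8 * w + 1 ∨ c = 8 * w + 7 := ⟨c / 8, by omega⟩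
    rcases hw with hw | hw <;> rw [hw]
    · exact ⟨4 * w * w + w, by ring_nf; omega⟩
    · exact ⟨4 * w * w + 7 * w + 3, by ring_nf; omega⟩
  have h8 : 2 ^ 3 ∣ Nat.card L := by
    obtain ⟨w, hw⟩ := h16
    rw [hw] at hmul
    exact ⟨c * w, by nlinarith⟩
  obtain ⟨A, hA⟩ := Sylow.exists_subgroup_card_pow_prime 2 h8
  obtain ⟨B, hB⟩ := (IsPGroup.of_card hA).exists_le_sylow
  have hcard := card_dvd_of_le hB
  rw [hA, Nat.card_congr (B.equiv P).toEquiv, h4] at hcard
  norm_num at hcard

theorem quaternion_not_comm : (QuaternionGroup.a 1 : QuaternionGroup 2) * QuaternionGroup.xa 0 ≠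
    QuaternionGroup.xa 0 * QuaternionGroup.a 1 := by
  decide

theorem klein_sq : ∀ y : Multiplicative (ZMod (2 ^ (0 + 1))) × Multiplicative (ZMod (2 ^ (0 + 1))),
    y * y = 1 := by
  decide

theorem trivial_prod (a b : Multiplicative (ZMod (2 ^ 0)) × Multiplicative (ZMod (2 ^ 0))) :
    a = b := by
  revert a b
  decide

variable {L : Type u} [Group L] [Finite L]

theorem not_comm_of_suzuki {F : Type} [Field F] [Fintype F] {m : ℕ} (hm : 1 ≤ m)
    (hc : Fintype.card F = 2 ^ (2 * m + 1)) (e : L ≃* Cfsg.Lie.Sz F (2 ^ (m + 1)))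
    (P : Sylow 2 L) : ¬ IsMulCommutative (P : Subgroup L) := by
  intro hP
  haveI : Fact (Nat.Prime 2) := ⟨Nat.prime_two⟩
  have h := CfsgLib.Suzuki.isSzField_of_card hm hc
  let ε : L ≃* Cfsg.Sz F m := e.trans (CfsgLib.Suzuki.lieEquiv h).symm
  haveI : Finite (Cfsg.Sz F m) := Finite.of_equiv L ε.toEquiv
  set T : Sylow 2 (Cfsg.Sz F m) := P.mapSurjective (f := ε.toMonoidHom) ε.surjective
  obtain ⟨-, -, hcen, hcard⟩ := Cfsg.Agent.S0330.result hm hc T
  have hT : IsMulCommutative (T : Subgroup (Cfsg.Sz F m)) :=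
    map_isMulCommutative (P : Subgroup L) ε.toMonoidHom
  have h1 : commutator (T : Subgroup (Cfsg.Sz F m)) = ⊥ := by
    rw [_root_.commutator_def, commutator_eq_bot_iff_le_centralizer]
    exact fun x _ => mem_centralizer_iff.2 fun y _ => hT.is_comm.comm y x
  rw [hcen, h1, card_bot] at hcard
  have : 2 ^ 1 ≤ 2 ^ (2 * m + 1) := Nat.pow_le_pow_right (by norm_num) (by omega)
  omega

theorem not_comm_of_unitary {F : Type} [Field F] [Fintype F] {n : ℕ} (hn : 2 ≤ n)
    (hc : Fintype.card F = (2 ^ n) ^ 2) (e : L ≃* Cfsg.PSU 3 F (2 ^ n))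
    (P : Sylow 2 L) : ¬ IsMulCommutative (P : Subgroup L) := by
  intro hP
  haveI : Fact (Nat.Prime 2) := ⟨Nat.prime_two⟩
  set T : Sylow 2 (Cfsg.PSU 3 F (2 ^ n)) := P.mapSurjective (f := e.toMonoidHom) e.surjective
  obtain ⟨-, -, -, -, ⟨x, y, hxy⟩, -⟩ := Cfsg.Agent.S1141.result hn hc T
  have hT : IsMulCommutative (T : Subgroup (Cfsg.PSU 3 F (2 ^ n))) :=
    map_isMulCommutative (P : Subgroup L) e.toMonoidHom
  exact hxy (hT.is_comm.comm x y)

/-- The simple groups. -/
theorem simple_case (hB : Bender.Consumers.Structure.{u}) (hGW : GWApps.Statement.{u})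
    [IsSimpleGroup L] (hna : ¬ IsMulCommutative L) (P : Sylow 2 L)
    (hP : IsMulCommutative (P : Subgroup L))
    (hC : ∀ t : L, orderOf t = 2 → Group.IsSolvable ↥(centralizer ({t} : Set L))) :
    ∃ (F : Type) (_ : Field F) (_ : Fintype F),
      (((Fintype.card F % 8 = 3 ∨ Fintype.card F % 8 = 5) ∧ 5 ≤ Fintype.card F) ∨
        (∃ n : ℕ, 2 ≤ n ∧ Fintype.card F = 2 ^ n)) ∧
      Nonempty (L ≃* Matrix.ProjectiveSpecialLinearGroup (Fin 2) F) := by
  haveI : Fact (Nat.Prime 2) := ⟨Nat.prime_two⟩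
  by_cases h8 : 8 ≤ Nat.card (omega (P : Subgroup L) hP)
  · obtain ⟨H, hH⟩ := exists_stronglyEmbedded hna P hP hC h8
    rcases Bender.Consumers.three_of_simple hB hH with ⟨F, i1, i2, hn, e⟩ |
      ⟨F, i1, i2, m, hm, hc, ⟨e⟩⟩ | ⟨F, i1, i2, n, hn, hc, ⟨e⟩⟩
    · exact ⟨F, i1, i2, Or.inr hn, e⟩
    · exact absurd hP (not_comm_of_suzuki hm hc e P)
    · exact absurd hP (not_comm_of_unitary hn hc e P)
  push Not at h8
  -- rank at most two
  set A := omega (P : Subgroup L) hP
  have hA4 : Nat.card A ≤ 4 := by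
    obtain ⟨k, hk⟩ := IsPGroup.iff_card.1 (P.2.to_le (fun x hx => hx.1 : A ≤ (P : Subgroup L)))
    rw [hk] at h8 ⊢
    rcases k with _ | _ | _ | k
    · norm_num
    · norm_num
    · norm_num
    · exfalso
      have := Nat.pow_le_pow_right (show 1 ≤ 2 by norm_num) (show 3 ≤ k + 1 + 1 + 1 by omega)
      omega
  haveI := hP
  letI : CommGroup (P : Subgroup L) :=
    { (inferInstance : Group (P : Subgroup L)) with mul_comm := fun a b => hP.is_comm.comm a b }
  have hm : Cfsg.IsMetacyclic (P : Subgroup L) :=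
    CfsgLib.TwoMetacyclic.isMetacyclic_of_rank P.2 (sectional_le_two _ (le_trans
      (Nat.card_le_card_of_injective (fun x => (⟨((x.1 : (P : Subgroup L)) : L), x.1.2,
        congrArg Subtype.val x.2⟩ : A)) fun a b hab => Subtype.ext (Subtype.ext
          (congrArg (fun z : A => (z : L)) hab))) hA4))
  have hsimp : ¬ Group.IsSolvable L := fun h => hna ⟨⟨IsSimpleGroup.comm_iff_isSolvable.2 h⟩⟩
  have hnilc : ¬ normalizer ((P : Subgroup L) : Set L) ≤ centralizer ((P : Subgroup L) : Set L) := by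
    intro hle
    obtain ⟨R, hR, hRo, hall⟩ := DGroup.exists_compl_of_burnside P hle
    haveI := hR
    exact hsimp (DGroup.solvable_of_odd_mem R hRo hall)
  have hA : ¬ IsPGroup 2 (MulAut (P : Subgroup L)) := by
    intro hA
    apply hnilc
    intro g hg
    set N := normalizer ((P : Subgroup L) : Set L)
    let f : N →* MulAut (P : Subgroup L) := (P : Subgroup L).normalizerMonoidHom
    have hodd : Odd (f.ker).index := by
      refine Nat.not_even_iff_odd.1 fun h => ?_
      have hdvd : f.ker.index ∣ ((P : Subgroup L).subgroupOf N).index := by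
        refine index_dvd_of_le fun x hx => ?_
        rw [MonoidHom.mem_ker]
        refine MulEquiv.ext fun y => Subtype.ext ?_
        have hc : (x : L) * y = y * x :=
          congrArg Subtype.val (hP.is_comm.comm ⟨x, hx⟩ y)
        show (x : L) * y * (x : L)⁻¹ = y
        rw [hc, mul_inv_cancel_right]
      have h2 : (P : Subgroup L).relIndex N ∣ (P : Subgroup L).index :=
        relIndex_dvd_index_of_le Subgroup.le_normalizer
      exact P.not_dvd_index (((even_iff_two_dvd.1 h).trans hdvd).trans h2)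
    obtain ⟨k, hk⟩ := (hA.to_subgroup f.range).exists_card_eq
    rw [index_ker, hk] at hodd
    have hk0 : k = 0 := by
      by_contra h0
      exact Nat.not_even_iff_odd.2 hodd (Nat.even_pow.2 ⟨even_two, h0⟩)
    rw [hk0, pow_zero] at hk
    have hbot := card_eq_one.1 hk
    have hfg : f ⟨g, hg⟩ = 1 := mem_bot.1 (hbot ▸ MonoidHom.mem_range.2 ⟨⟨g, hg⟩, rfl⟩)
    refine mem_centralizer_iff.2 fun y hy => ?_
    have h0 := congrArg Subtype.val (DFunLike.congr_fun hfg (⟨y, hy⟩ : (P : Subgroup L)))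
    have h1 : g * y * g⁻¹ = y := h0
    exact (mul_inv_eq_iff_eq_mul.1 h1).symm
  rcases MetacyclicAut.quaternion_or_homocyclic P.2 hm hA with ⟨⟨e⟩⟩ | ⟨n, ⟨e⟩⟩
  · exfalso
    have h := hP.is_comm.comm (e.symm (QuaternionGroup.a 1)) (e.symm (QuaternionGroup.xa 0))
    rw [← map_mul, ← map_mul] at h
    exact quaternion_not_comm (e.symm.injective h)
  rcases n with _ | _ | n
  · exfalso
    refine hnilc fun g _ => mem_centralizer_iff.2 fun y hy => ?_
    have : (⟨y, hy⟩ : (P : Subgroup L)) = 1 := e.injective (trivial_prod _ _)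
    simp [show y = 1 from congrArg Subtype.val this]
  · -- Klein four group
    have hc4 : Nat.card (P : Subgroup L) = 4 := by
      rw [Nat.card_congr e.toEquiv, Nat.card_prod, Nat.card_congr Multiplicative.toAdd, Nat.card_zmod]
      norm_num
    have hsq : ∀ x : (P : Subgroup L), x * x = 1 := fun x => e.injective (by
      rw [map_mul, map_one]
      exact klein_sq (e x))
    haveI : Nontrivial (P : Subgroup L) := Finite.one_lt_card_iff_nontrivial.1 (by omega)
    haveI : IsKleinFour (P : Subgroup L) := ⟨hc4, (Monoid.exponent_eq_prime_iff Nat.prime_two).2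
      fun g hg => orderOf_eq_prime (by rw [sq]; exact hsq g) hg⟩
    obtain ⟨eD⟩ := (IsKleinFour.nonempty_mulEquiv : Nonempty ((P : Subgroup L) ≃* DihedralGroup 2))
    haveI : Group.IsPerfect L := ⟨(IsSimpleGroup.eq_bot_or_eq_top_of_normal _
      (inferInstance : (commutator L).Normal)).resolve_left fun h => hna ⟨⟨fun a b =>
        commutatorElement_eq_one_iff_mul_comm.1 (mem_bot.1 (h ▸ by
          rw [_root_.commutator_def]
          exact commutator_mem_commutator (mem_top a) (mem_top b)))⟩⟩⟩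
    have hO : Cfsg.oddCore L = ⊥ := by
      rcases (DGroup.normal_oddCore L).eq_bot_or_eq_top with h | h
      · exact h
      · exfalso
        have h1 := DGroup.odd_oddCore L
        rw [h, card_top, ← (P : Subgroup L).index_mul_card, hc4, Nat.odd_mul] at h1
        exact absurd h1.2 (by decide)
    let bot : L ⧸ Cfsg.oddCore L ≃* L :=
      (QuotientGroup.quotientMulEquivOfEq hO).trans QuotientGroup.quotientBot
    rcases hGW L P 2 le_rfl ⟨eD⟩ with ⟨F, i1, i2, hodd, h3, ⟨q⟩⟩ | ⟨⟨q⟩⟩
    · refine ⟨F, i1, i2, Or.inl ⟨q_mod_eight hodd P hc4 (bot.symm.trans q), ?_⟩,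
        ⟨bot.symm.trans q⟩⟩
      obtain ⟨d, hd⟩ := hodd
      omega
    · exfalso
      have h8 : 2 ^ 3 ∣ Nat.card L := by
        rw [Nat.card_congr (bot.symm.trans q).toEquiv, Nat.card_eq_fintype_card,
          card_alternatingGroup, Fintype.card_fin]
        decide
      obtain ⟨B₀, hB₀⟩ := Sylow.exists_subgroup_card_pow_prime 2 h8
      obtain ⟨B, hB'⟩ := (IsPGroup.of_card hB₀).exists_le_sylow
      have hcard := card_dvd_of_le hB'
      rw [hB₀, Nat.card_congr (B.equiv P).toEquiv, hc4] at hcard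
      norm_num at hcard
  · exfalso
    obtain ⟨hn, -, -⟩ := Cfsg.Agent.S0949.result P (n + 1 + 1) (by omega)
      (e.trans (MulEquiv.prodMultiplicative (ZMod (2 ^ (n + 1 + 1))) (ZMod (2 ^ (n + 1 + 1)))).symm) fun N hN hodd => by
        rcases hN.eq_bot_or_eq_top with h | h
        · exact h
        · exfalso
          rw [h, card_top] at hodd
          exact hsimp (Cfsg.Agent.S0205.result hodd)
    apply hna
    rcases hn.eq_bot_or_eq_top with h | h
    · exact absurd (fun g _ => mem_centralizer_iff.2 fun y hy => by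
        rw [h] at hy; simp [mem_bot.1 hy]) hnilc
    · exact ⟨⟨fun x y => congrArg Subtype.val
        (hP.is_comm.comm ⟨x, h.symm ▸ mem_top x⟩ ⟨y, h.symm ▸ mem_top y⟩)⟩⟩

end CfsgLib.AbelianSolvCent
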